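import Cfsg.Agent.H567.BGr.Tools
import Cfsg.Agent.H153.ZerosSuz
import Cfsg.Agent.H361.Alt.Suz

/-!
# S3561: the row of the Suzuki sporadic group (helper567)

A proper subgroup of order divisible by 11 and 13 has a section `A13`, with elements of order 35.
-/

set_option autoImplicit false

namespace Cfsg.Agent.H567.BGr

open Subgroup Cfsg
open Cfsg.Agent.OrdDiv
open Cfsg.Agent.H57.BG
open Cfsg.Agent.H257.El (Known okPair surv chkPair noOrd_of_noComm noOrd_of_cent noOrd_congr)

universe u

/-- `A13` has an element of order 35. -/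
theorem alt_thirteen : ∃ z : alternatingGroup (Fin 13), orderOf z = 5 * 7 := by
  let c : Equiv.Perm (Fin 13) := c[0, 1, 2, 3, 4] * c[5, 6, 7, 8, 9, 10, 11]
  have hc : c ∈ alternatingGroup (Fin 13) := by
    rw [Equiv.Perm.mem_alternatingGroup]
    decide +kernel
  refine ⟨⟨c, hc⟩, ?_⟩
  rw [Subgroup.orderOf_mk]
  refine orderOf_eq_of_pow_and_pow_div_prime (by norm_num) (by decide +kernel) ?_
  intro p hp hd
  rcases (Nat.Prime.dvd_mul hp).1 hd with h | h
  · rw [(Nat.prime_dvd_prime_iff_eq hp (by norm_num)).1 h]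
    decide +kernel
  · rw [(Nat.prime_dvd_prime_iff_eq hp (by norm_num)).1 h]
    decide +kernel

theorem surv_suz : surv 448345497600 [(2, 13), (3, 7), (5, 2), (7, 1), (11, 1), (13, 1)] 13 [11] = [Grp.alt 13] := by
  decide +kernel

theorem row_suz (tab : OrderTable.{u}) (known : Known.{u}) {T : Type u} [Group T] (h : Spor.IsoSuz T) : Row T := by
  have hn := NotCT.Orders.suz h
  have : Finite T := Nat.finite_of_card_ne_zero (by rw [hn]; norm_num)
  obtain ⟨e⟩ := id h
  have : Finite Spor.Suz := Finite.of_equiv _ e.toEquiv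
  intro A L hr
  obtain ⟨O, hO, N, htop, g, hg, hreal, -, -, -⟩ := hr.exists_name tab known
    (l := [(2, 13), (3, 7), (5, 2), (7, 1), (11, 1), (13, 1)]) (r := 13) hn (by decide +kernel) (by norm_num)
    (by norm_num) (by norm_num) [11] (by simp) (fun s hs => by
      rw [List.mem_singleton] at hs
      subst hs
      refine ⟨by norm_num, ⟨by norm_num, by norm_num⟩, ?_, by decide +kernel⟩
      exact noOrd_congr e (noOrd_of_cent (by norm_num) (fun x hx => H153.Zeros.card_cent_suz hx)
        (by norm_num) (by norm_num)))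
  rw [surv_suz, List.mem_singleton] at hg
  subst hg
  obtain ⟨φ⟩ := hreal
  obtain ⟨z, hz⟩ := alt_thirteen
  obtain ⟨w, hw⟩ := H257.El.Sit.exists_orderOf (T := T) (R := L) (O := O) (N := N) (k := 5 * 7)
    ⟨φ.symm z, by rw [MulEquiv.orderOf_eq, hz]⟩
  exact H361.Alt.SuzF.no_35 h w hw

end Cfsg.Agent.H567.BGr
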