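import Cfsg.Agent.H567.BGr.Tools
import Cfsg.Agent.Cit.Eleven
import Cfsg.Agent.CoThreeStd.AutInv
import Cfsg.Agent.M22.Sylow11
import Cfsg.Agent.NotCT.Orders

/-!
# S3561: the rows of the Mathieu groups (helper567)
-/

set_option autoImplicit false

namespace Cfsg.Agent.H567.BGr

open Subgroup Cfsg
open Cfsg.Agent.OrdDiv
open Cfsg.Agent.H57.BG
open Cfsg.Agent.H257.El (Known okPair surv chkPair noOrd_of_noComm noOrd_of_cent noOrd_congr)

universe u

/-! ### `M11`, `M12`: the centralizers of involutions -/

theorem row_m11 {T : Type u} [Group T] (h : Spor.IsoM11 T) : Row T := by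
  have hn := NotCT.Orders.m11 h
  have : Finite T := Nat.finite_of_card_ne_zero (by rw [hn]; norm_num)
  have hs : IsSporadicGroup T := Or.inl h
  have hc : center T = ⊥ := center_spor hs hn (by norm_num)
  intro A L hr
  obtain ⟨h4, h9⟩ := sq_two_three hr hn (N := 89) (by norm_num) (by norm_num) (by decide +kernel)
  obtain ⟨z, hz, hd⟩ := exists_invol hr hs hc h4 h9
  rw [Cit.Eleven.card_centralizer h hz] at hd
  omega

theorem card_cent_m12 {z : Spor.M12} (hz : orderOf z = 2) :
    Nat.card (centralizer ({z} : Set Spor.M12)) = 240 ∨ Nat.card (centralizer ({z} : Set Spor.M12)) = 192 := by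
  have h1 : z * z = 1 := by
    rw [← pow_two, ← hz]
    exact pow_orderOf_eq_one z
  have h2 : z ≠ 1 := by
    rintro rfl
    rw [orderOf_one] at hz
    omega
  rcases CoThreeStd.AutInv.isA_or_isB h1 h2 with h | h
  · exact Or.inl h.2.2
  · exact Or.inr h.2.2

theorem row_m12 {T : Type u} [Group T] (h : Spor.IsoM12 T) : Row T := by
  have hn := NotCT.Orders.m12 h
  have : Finite T := Nat.finite_of_card_ne_zero (by rw [hn]; norm_num)
  obtain ⟨e⟩ := h
  refine Row.congr e ?_
  have h : Spor.IsoM12 Spor.M12 := ⟨MulEquiv.refl _⟩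
  have hn := NotCT.Orders.m12 h
  have : Finite Spor.M12 := Nat.finite_of_card_ne_zero (by rw [hn]; norm_num)
  have hs : IsSporadicGroup Spor.M12 := Or.inr (Or.inl h)
  have hc : center Spor.M12 = ⊥ := center_spor hs hn (by norm_num)
  intro A L hr
  obtain ⟨h4, h9⟩ := sq_two_three hr hn (N := 309) (by norm_num) (by norm_num) (by decide +kernel)
  obtain ⟨z, hz, hd⟩ := exists_invol hr hs hc h4 h9
  rcases card_cent_m12 hz with h1 | h1 <;> rw [h1] at hd <;> omega

/-! ### `M22` -/

theorem cent_m22 {T : Type u} [Group T] (h : Spor.IsoM22 T) {x : T} (hx : orderOf x = 11) :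
    Nat.card (centralizer ({x} : Set T)) = 11 := by
  have hn := NotCT.Orders.m22 h
  have : Finite T := Nat.finite_of_card_ne_zero (by rw [hn]; norm_num)
  have hs : IsSimpleGroup T := H123.SporSimple.spor_simple (Or.inr (Or.inr (Or.inl h)))
  have h11 : Fact (Nat.Prime 11) := ⟨by norm_num⟩
  obtain ⟨P, hP⟩ := (IsPGroup.of_card (n := 1) (by rw [Nat.card_zpowers, hx, pow_one]) :
    IsPGroup 11 (zpowers x)).exists_le_sylow
  have hcP : Nat.card P = 11 := by
    obtain ⟨k, hk⟩ := P.isPGroup'.exists_card_eq
    have h1 : 11 ^ k ∣ 443520 := by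
      rw [← hn, ← hk]
      exact Subgroup.card_subgroup_dvd_card _
    have h2 : 11 ∣ 11 ^ k := by
      have h5 := Subgroup.card_dvd_of_le hP
      rwa [Nat.card_zpowers, hx, hk] at h5
    have h3 : k ≤ 1 := by
      by_contra hk2
      have h4 := (pow_dvd_pow 11 (show 2 ≤ k by omega)).trans h1
      norm_num at h4
    rcases Nat.lt_or_ge k 1 with h4 | h4
    · have : k = 0 := by omega
      rw [this] at h2
      norm_num at h2
    · rw [hk, show k = 1 by omega, pow_one]
  have hz : zpowers x = P := Subgroup.eq_of_le_of_card_ge hP (by rw [hcP, Nat.card_zpowers, hx])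
  have h1 := (M22.Sylow11.sylow_eleven hn P).1
  have h1' : centralizer ((zpowers x : Subgroup T) : Set T) = zpowers x := by
    have h3 : ((zpowers x : Subgroup T) : Set T) = ((P : Subgroup T) : Set T) := by rw [hz]
    rw [h3]
    exact h1.trans hz.symm
  have h2 : centralizer ({x} : Set T) = centralizer ((zpowers x : Subgroup T) : Set T) := by
    ext y
    constructor
    · intro hy
      rw [mem_centralizer_iff]
      rintro _ ⟨n, rfl⟩
      have h3 : Commute x y := (mem_centralizer_singleton_iff.1 hy).symm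
      exact (h3.zpow_left n).eq
    · intro hy
      rw [mem_centralizer_singleton_iff]
      exact (mem_centralizer_iff.1 hy x (mem_zpowers x)).symm
  rw [h2, h1', Nat.card_zpowers, hx]

theorem row_m22 (tab : OrderTable.{u}) (known : Known.{u}) {T : Type u} [Group T] (h : Spor.IsoM22 T) : Row T := by
  have hn := NotCT.Orders.m22 h
  have : Finite T := Nat.finite_of_card_ne_zero (by rw [hn]; norm_num)
  exact row_of_pair tab known (r := 11) (s := 7) (l := [(2, 7), (3, 2), (5, 1), (7, 1), (11, 1)]) hn (by norm_num)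
    (by norm_num) (noOrd_of_cent (by norm_num) (fun x hx => cent_m22 h hx) (by norm_num) (by norm_num))
    (by decide +kernel) (by norm_num) (by norm_num) (by norm_num) (by norm_num)

/-! ### `M23`, `M24`: permutations of 24 points -/

theorem no_twentythree {X : Type*} [Fintype X] [DecidableEq X] (hX : Fintype.card X = 24) {s : ℕ} (hs : s.Prime)
    (g : Equiv.Perm X) : orderOf g ≠ 23 * s := by
  intro hg
  have h23 : Nat.Prime 23 := by norm_num
  have h0 : g.cycleType.sum ≤ 24 := by
    rw [Equiv.Perm.sum_cycleType, ← hX]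
    exact Finset.card_le_univ _
  have h1 : g.cycleType.lcm = 23 * s := by rw [Equiv.Perm.lcm_cycleType, hg]
  -- a cycle length divisible by 23
  have key : ∀ m : Multiset ℕ, 23 ∣ m.lcm → ∃ n ∈ m, 23 ∣ n := by
    intro m
    induction m using Multiset.induction with
    | empty =>
      intro h
      rw [Multiset.lcm_zero] at h
      norm_num at h
    | cons a m ih =>
      intro h
      rw [Multiset.lcm_cons] at h
      have h2 : 23 ∣ a * m.lcm := h.trans (lcm_dvd (dvd_mul_right _ _) (dvd_mul_left _ _))
      rcases h23.dvd_mul.1 h2 with h3 | h3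
      · exact ⟨a, Multiset.mem_cons_self _ _, h3⟩
      · obtain ⟨n, hn, hd⟩ := ih h3
        exact ⟨n, Multiset.mem_cons_of_mem hn, hd⟩
  obtain ⟨n, hn, hd⟩ := key _ (h1 ▸ dvd_mul_right 23 s)
  obtain ⟨m, hm⟩ := Multiset.exists_cons_of_mem hn
  have hn2 := Equiv.Perm.two_le_of_mem_cycleType hn
  rw [hm, Multiset.sum_cons] at h0
  have hn23 : n = 23 := by
    have := Nat.le_of_dvd (by omega) hd
    obtain ⟨c, rfl⟩ := hd
    have : c < 2 := by
      by_contra hc
      push Not at hc
      have : 23 * 2 ≤ 23 * c := Nat.mul_le_mul_left 23 hc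
      omega
    interval_cases c
    · omega
    · rfl
  have hm0 : m = 0 := by
    rcases Multiset.empty_or_exists_mem m with h | ⟨k, hk⟩
    · exact h
    · exfalso
      have hk2 : 2 ≤ k := Equiv.Perm.two_le_of_mem_cycleType (σ := g) (by
        rw [hm]
        exact Multiset.mem_cons_of_mem hk)
      have hk3 : k ≤ m.sum := Multiset.single_le_sum (fun _ _ => Nat.zero_le _) k hk
      omega
  rw [hm, hm0, hn23, Multiset.lcm_cons, Multiset.lcm_zero] at h1
  have h2 : (23 : ℕ) = 23 * s := by
    rw [← h1]
    exact (by decide : lcm 23 1 = 23).symm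
  have := hs.two_le
  omega

theorem no_m24 {K : Subgroup (Equiv.Perm GolayPt)} {T : Type u} [Group T] (h : Nonempty (T ≃* K)) {s : ℕ}
    (hs : s.Prime) (z : T) : orderOf z ≠ 23 * s := by
  classical
  obtain ⟨e⟩ := h
  have h1 : Fintype.card GolayPt = 24 := by
    decide +kernel
  rw [← MulEquiv.orderOf_eq e z, ← Subgroup.orderOf_coe]
  exact no_twentythree h1 hs _

theorem row_m23 (tab : OrderTable.{u}) (known : Known.{u}) {T : Type u} [Group T] (h : Spor.IsoM23 T) : Row T := by
  have hn := NotCT.Orders.m23 h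
  have : Finite T := Nat.finite_of_card_ne_zero (by rw [hn]; norm_num)
  exact row_of_pair tab known (r := 23) (s := 5) (l := [(2, 7), (3, 2), (5, 1), (7, 1), (11, 1), (23, 1)]) hn
    (by norm_num) (by norm_num) (fun z => no_m24 h (by norm_num) z) (by decide +kernel) (by norm_num) (by norm_num)
    (by norm_num) (by norm_num)

theorem row_m24 (tab : OrderTable.{u}) (known : Known.{u}) {T : Type u} [Group T] (h : Spor.IsoM24 T) : Row T := by
  have hn := NotCT.Orders.m24 h
  have : Finite T := Nat.finite_of_card_ne_zero (by rw [hn]; norm_num)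
  exact row_of_names tab known (r := 23) (l := [(2, 10), (3, 3), (5, 1), (7, 1), (11, 1), (23, 1)]) hn
    (by norm_num) [7] (by simp) (fun s hs => by
      rw [List.mem_singleton] at hs
      subst hs
      exact ⟨by norm_num, fun z => no_m24 h (by norm_num) z⟩) (by decide +kernel)

end Cfsg.Agent.H567.BGr
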