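import Cfsg.Agent.H57.BG.Pair
import Cfsg.Agent.H123.SporSimple
import Cfsg.Agent.H489.OutSpor

/-!
# S3561, rows of sporadic groups: tools (helper567)

* `center_spor` : trivial centre;
* `index_inn` : `|Out|` is 1 or 2 for the sporadic groups;
* `sq_two_three` : if 2 and 3 are the only primes whose square divides `|T|` then 4 and 9 divide `|T : L|`;
* `exists_invol` : an involution in `inner A`.
-/

set_option autoImplicit false

namespace Cfsg.Agent.H567.BGr

open Subgroup Cfsg
open Cfsg.Agent.H57.BG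

universe u

variable {T : Type u} [Group T]

theorem center_spor (h : IsSporadicGroup T) {n : ℕ} (hn : Nat.card T = n) (hn1 : ¬ n.Prime) : center T = ⊥ := by
  have hs : IsSimpleGroup T := H123.SporSimple.spor_simple h
  rcases (inferInstance : (center T).Normal).eq_bot_or_eq_top with h1 | h1
  · exact h1
  · exfalso
    apply hn1
    rw [← hn]
    have hc : ∀ a b : T, a * b = b * a := fun a b => mem_center_iff.1 (h1 ▸ mem_top b : b ∈ center T) a
    let _ : CommGroup T := { ‹Group T› with mul_comm := hc }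
    exact IsSimpleGroup.prime_card (α := T)

theorem index_inn (h : IsSporadicGroup T) [Finite T] : (Inn T).index = 1 ∨ (Inn T).index = 2 := by
  have h1 : (Inn T).index ≤ 2 := H489.card_out_sporadic h
  have h2 : (Inn T).index ≠ 0 := Subgroup.index_ne_zero_of_finite
  omega

theorem sq_two_three [Finite T] {A : Subgroup (MulAut T)} {L : Subgroup T} (h : Reg A L) {n N : ℕ}
    (hn : Nat.card T = n) (hN : n < N ^ 2) (hn0 : 0 < n)
    (hc : ∀ r < N, 2 ≤ r → n % r ^ 2 = 0 → r % 2 = 0 ∨ r % 3 = 0) :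
    2 ^ 2 ∣ L.index ∧ 3 ^ 2 ∣ L.index := by
  have key : ∀ r : ℕ, r.Prime → r ^ 2 ∣ L.index → r = 2 ∨ r = 3 := by
    intro r hr hd
    have h1 : r ^ 2 ∣ n := by
      rw [← hn]
      exact hd.trans (Subgroup.index_dvd_card L)
    have h2 : r < N := by
      by_contra hge
      push Not at hge
      have h3 := Nat.le_of_dvd hn0 h1
      have h4 : N ^ 2 ≤ r ^ 2 := Nat.pow_le_pow_left hge 2
      omega
    rcases hc r h2 hr.two_le (Nat.mod_eq_zero_of_dvd h1) with h3 | h3
    · exact Or.inl ((Nat.prime_dvd_prime_iff_eq Nat.prime_two hr).1 (Nat.dvd_of_mod_eq_zero h3)).symm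
    · exact Or.inr ((Nat.prime_dvd_prime_iff_eq Nat.prime_three hr).1 (Nat.dvd_of_mod_eq_zero h3)).symm
  obtain ⟨r, s, hr, hs, hrs, hr2, hs2⟩ := h.exists_two_primes
  rcases key r hr hr2 with h1 | h1 <;> rcases key s hs hs2 with h2 | h2
  · exact absurd (h1.trans h2.symm) hrs
  · rw [h1] at hr2
    rw [h2] at hs2
    exact ⟨hr2, hs2⟩
  · rw [h1] at hr2
    rw [h2] at hs2
    exact ⟨hs2, hr2⟩
  · exact absurd (h1.trans h2.symm) hrs

/-- If the index is divisible by 4 and by `m`, then some involution `z` has `m ∣ 2 |C(z)|`. -/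
theorem exists_invol [Finite T] {A : Subgroup (MulAut T)} {L : Subgroup T} (h : Reg A L) (hs : IsSporadicGroup T)
    (hc : center T = ⊥) (h4 : 2 ^ 2 ∣ L.index) {m : ℕ} (hm : m ∣ L.index) :
    ∃ z : T, orderOf z = 2 ∧ m ∣ 2 * Nat.card (centralizer ({z} : Set T)) := by
  have h1 := index_inn hs
  obtain ⟨z, hz, hz2⟩ := h.exists_inner hc Nat.prime_two h4 (by rcases h1 with h1 | h1 <;> rw [h1] <;> norm_num)
  refine ⟨z, hz2, hm.trans ((h.index_dvd_cent hc (X := {z}) (by simpa using hz)).trans ?_)⟩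
  rw [mul_comm]
  exact Nat.mul_dvd_mul (by rcases h1 with h1 | h1 <;> rw [h1] <;> norm_num) dvd_rfl

end Cfsg.Agent.H567.BGr
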